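import Mathlib
import Cfsg.Agent.S1225
import Cfsg.Agent.StrongEmb.Main
import Cfsg.Agent.StrongEmb.Simple
import Cfsg.Agent.TwoFusion.GoldBen

/-!
# END2, the simple case

A simple group with a strongly embedded subgroup `M` and a normal abelian 2-subgroup `T` of `M` which is
not elementary does not exist.
-/

set_option autoImplicit false

universe u

namespace Cfsg.Agent.H336.OT

open Cfsg MulAction Cfsg.Agent.LieRecognition Cfsg.Agent.SuzukiRankOne
open Cfsg.Agent.TwoFusion.Gold Cfsg.Agent.TwoFusion.GoldBenPSU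
open Cfsg.Agent.TwoFusion.StronglyEmbeddedBasic

section Setup

variable {G Ω : Type*} [Group G] [Finite G] [MulAction G Ω] {a : Ω} {t : G} {Q : Subgroup G}

omit [Finite G] in
/-- An element of order four. -/
theorem exists_four {T : Subgroup G} (hT : IsPGroup 2 T) (hnot : ∃ x ∈ T, x * x ≠ 1) :
    ∃ r ∈ T, r * r ≠ 1 ∧ (r * r) * (r * r) = 1 := by
  obtain ⟨x, hx, hx1⟩ := hnot
  obtain ⟨n, hn⟩ := IsPGroup.iff_orderOf.mp hT ⟨x, hx⟩
  rw [Subgroup.orderOf_mk] at hn
  have hn2 : 2 ≤ n := by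
    by_contra hlt
    apply hx1
    have h1 : x ^ 2 ^ n = 1 := by rw [← hn]; exact pow_orderOf_eq_one x
    have h2 : n = 0 ∨ n = 1 := by omega
    rcases h2 with rfl | rfl
    · rw [pow_zero, pow_one] at h1
      rw [h1, mul_one]
    · rw [pow_one, pow_two] at h1
      exact h1
  obtain ⟨m, rfl⟩ : ∃ m, n = m + 2 := ⟨n - 2, by omega⟩
  refine ⟨x ^ 2 ^ m, pow_mem hx _, ?_, ?_⟩
  · rw [← pow_two, ← pow_mul, ← pow_succ]
    intro h
    have h1 := orderOf_dvd_of_pow_eq_one h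
    rw [hn] at h1
    have h2 := Nat.pow_dvd_pow_iff_le_right (x := 2) (by norm_num) |>.mp h1
    omega
  · have h1 : x ^ 2 ^ m * x ^ 2 ^ m * (x ^ 2 ^ m * x ^ 2 ^ m) = x ^ 2 ^ (m + 2) := by
      rw [← pow_two, ← pow_two, ← pow_mul, ← pow_mul]
      congr 1
      rw [pow_add]; ring
    rw [h1, ← hn, pow_orderOf_eq_one]

/-- `|Ω₁(Q)|² ≤ |T|` if `T` is not elementary. -/
theorem sq_le_T (hS : IsRankOneSetup G Ω a t Q) {T : Subgroup G}
    (hTQ : T ≤ Q) (hTn : ∀ m ∈ stabilizer G a, ∀ x ∈ T, m * x * m⁻¹ ∈ T)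
    (hcen : ∀ s ∈ involutionsIn (stabilizer G a : Set G), s ∈ Q ∧ ∀ x ∈ Q, s * x = x * s)
    (hinv' : ∀ s ∈ involutionsIn (stabilizer G a : Set G), s ∈ T)
    {r : G} (hr : r ∈ T) (hr1 : r * r ≠ 1) (hr2 : (r * r) * (r * r) = 1) :
    (invo G Q).ncard ^ 2 ≤ Nat.card T := by
  classical
  have hinv : ∀ w ∈ invo G Q, ∀ x ∈ Q, w * x = x * w := by
    intro w hw x hx
    rw [Cfsg.Agent.TwoFusion.GoldBen.invo_eq hS] at hw
    rcases hw with rfl | hw
    · rw [one_mul, mul_one]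
    · exact (hcen w hw).2 x hx
  have hinvT : ∀ w ∈ invo G Q, w ∈ T := by
    intro w hw
    rw [Cfsg.Agent.TwoFusion.GoldBen.invo_eq hS] at hw
    rcases hw with rfl | hw
    · exact one_mem _
    · exact hinv' w hw
  -- square roots
  have hroot : ∀ z ∈ invo G Q, ∃ y ∈ T, y * y = z := by
    intro z hz
    have hz' := hz
    rw [Cfsg.Agent.TwoFusion.GoldBen.invo_eq hS] at hz'
    rcases hz' with rfl | hz'
    · exact ⟨1, one_mem _, mul_one 1⟩
    · have h1 : r * r ∈ involutionsIn (stabilizer G a : Set G) :=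
        ⟨hS.le (hTQ (mul_mem hr hr)), hr1, hr2⟩
      obtain ⟨k, hk, hkz⟩ := (Cfsg.Agent.S1122.result hS).2 _ h1 _ hz'
      refine ⟨k⁻¹ * r * k, ?_, ?_⟩
      · have := hTn k⁻¹ (inv_mem hk.1.1) r hr
        rwa [inv_inv] at this
      · rw [← hkz]; group
  choose! y hyQ hy using hroot
  have hle : Nat.card (invo G Q × invo G Q) ≤ Nat.card T := by
    refine Nat.card_le_card_of_injective
      (fun p : invo G Q × invo G Q => (⟨y p.1 * p.2, mul_mem (hyQ _ p.1.2) (hinvT _ p.2.2)⟩ : T)) ?_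
    have hsq : ∀ p : invo G Q × invo G Q, (y p.1 * p.2 : G) * (y p.1 * p.2) = p.1 := by
      intro p
      have h1 := hinv p.2 p.2.2 (y p.1) (hTQ (hyQ _ p.1.2))
      calc (y p.1 * p.2 : G) * (y p.1 * p.2) = y p.1 * (p.2 * y p.1) * p.2 := by group
        _ = y p.1 * (y p.1 * p.2) * p.2 := by rw [h1]
        _ = (y p.1 * y p.1) * (p.2 * p.2) := by group
        _ = p.1 := by rw [hy _ p.1.2, p.2.2.2, mul_one]
    intro p p' hpp
    have h1 : (y p.1 * p.2 : G) = y p'.1 * p'.2 := congrArg Subtype.val hpp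
    have h2 : (p.1 : G) = p'.1 := by rw [← hsq p, ← hsq p', h1]
    have h3 : p.1 = p'.1 := Subtype.ext h2
    rw [h3] at h1
    exact Prod.ext h3 (Subtype.ext (mul_left_cancel h1))
  rwa [Nat.card_prod, Nat.card_coe_set_eq, ← pow_two] at hle

omit [Finite G] in
/-- A torus element is impossible. -/
theorem false_of_torus {T S : Subgroup G} (hy : TorusElt S) (hTS : T ≤ S)
    (hTn : ∀ m ∈ Subgroup.normalizer (S : Set G), ∀ x ∈ T, m * x * m⁻¹ ∈ T)
    (hc : ∀ x ∈ T, ∀ y ∈ T, x * y = y * x)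
    {r : G} (hr : r ∈ T) (hr1 : r * r ≠ 1) (hr2 : (r * r) * (r * r) = 1) : False := by
  obtain ⟨y, hy1, hy2, hy3, hy4⟩ := hy
  set c : G := y * r * y⁻¹ * r⁻¹ with hcdef
  have hcT : c ∈ T := mul_mem (hTn y hy2 r hr) (inv_mem hr)
  have hyr : y * r * y⁻¹ = c * r := by rw [hcdef]; group
  have hrr : y * (r * r) * y⁻¹ = r * r := by
    rw [← hy3 (r * r) (hTS (mul_mem hr hr)) hr2]; group
  have hcc : c * c = 1 := by
    have h1 : (c * r) * (c * r) = r * r := by
      rw [← hyr]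
      calc y * r * y⁻¹ * (y * r * y⁻¹) = y * (r * r) * y⁻¹ := by group
        _ = r * r := hrr
    have h2 : (c * r) * (c * r) = (c * c) * (r * r) := by
      have h3 := hc r hr c hcT
      calc (c * r) * (c * r) = c * (r * c) * r := by group
        _ = c * (c * r) * r := by rw [h3]
        _ = (c * c) * (r * r) := by group
    rw [h2] at h1
    exact mul_eq_right.mp h1
  have hyc : y * c * y⁻¹ = c := by
    rw [← hy3 c (hTS hcT) hcc]; group
  have hpow : ∀ k : ℕ, y ^ k * r * (y ^ k)⁻¹ = c ^ k * r := by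
    intro k
    induction k with
    | zero => simp
    | succ k ih =>
      have hck : y ^ k * c * (y ^ k)⁻¹ = c := by
        have : Commute y c := by
          show y * c = c * y
          exact mul_inv_eq_iff_eq_mul.mp hyc
        rw [(this.pow_left k).eq]; group
      calc y ^ (k + 1) * r * (y ^ (k + 1))⁻¹ = y ^ k * (y * r * y⁻¹) * (y ^ k)⁻¹ := by
            rw [pow_succ]; group
        _ = y ^ k * (c * r) * (y ^ k)⁻¹ := by rw [hyr]
        _ = (y ^ k * c * (y ^ k)⁻¹) * (y ^ k * r * (y ^ k)⁻¹) := by group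
        _ = c * (c ^ k * r) := by rw [hck, ih]
        _ = c ^ (k + 1) * r := by rw [pow_succ']; group
  have h1 := hpow (orderOf y)
  rw [pow_orderOf_eq_one, one_mul, inv_one, mul_one] at h1
  have h2 : c ^ orderOf y = 1 := by
    have h3 : 1 * r = c ^ orderOf y * r := by rw [one_mul]; exact h1
    exact (mul_right_cancel h3).symm
  have h3 : c = 1 := by
    obtain ⟨k, hk⟩ := hy1
    rw [hk, pow_succ, pow_mul, pow_two, hcc, one_pow, one_mul] at h2
    exact h2
  have h4 : r * y = y * r := by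
    rw [h3, one_mul] at hyr
    exact (mul_inv_eq_iff_eq_mul.mp hyr).symm
  exact hr1 (hy4 r (hTS hr) h4)

/-- The rank one situation. -/
theorem false_of_setup [FaithfulSMul G Ω] [IsSimpleGroup G]
    (hS : IsRankOneSetup G Ω a t Q)
    (h2 : ∃ x y : G, x ≠ 1 ∧ y ≠ 1 ∧ x ≠ y ∧ x * x = 1 ∧ y * y = 1 ∧ x * y = y * x)
    {T : Subgroup G} (hTQ : T ≤ Q) (hTn : ∀ m ∈ stabilizer G a, ∀ x ∈ T, m * x * m⁻¹ ∈ T)
    (hc : ∀ x ∈ T, ∀ y ∈ T, x * y = y * x) (hinv' : ∀ s ∈ involutionsIn (stabilizer G a : Set G), s ∈ T)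
    (hx : ∃ x ∈ T, x * x ≠ 1) : False := by
  obtain ⟨hcen, hclosed⟩ := S1130.result hS h2
  have hK := S1131.result hS h2
  obtain ⟨C, hC, hCc, -⟩ := id hK
  obtain ⟨⟨s, r⟩, ⟨hs, hr, hsr⟩, -⟩ := S1123.result hS
  simp only at hs hr hsr
  have hgen := Generate.closure_eq_top hS
  have hQ2 := M1.isPGroup_Q hS h2
  have hT2 : IsPGroup 2 T := hQ2.to_le hTQ
  obtain ⟨w, hwT, hw1, hw2⟩ := exists_four hT2 hx
  have hall : ¬ ∀ x ∈ Q, x * x = 1 := fun h => hw1 (h w (hTQ hwT))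
  by_cases hrs : r = s
  · -- `r = s` : unitary groups
    subst hrs
    have hinv : r⁻¹ = r := inv_eq_of_mul_eq_one_left hs.2.2
    rw [hinv] at hsr
    obtain ⟨F, iF, iFt, iFc, κ, iA, δ, T', hδ1⟩ :=
      SingerField.exists_torus hS hcen C hC hCc r hs
    obtain ⟨hsq, -, hcard⟩ := TranslationMain.main hS h2 T' (by rw [hδ1]; exact hsr)
    have hcard' := hcard.resolve_left hall
    rw [UThreeMain.card_field hS T'] at hcard'
    have hU := UThreeMain.nonempty_mulEquiv hS h2 hcen C hC hCc r hs hsr hcard' ?_ hgen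
    · obtain ⟨F', iF', iFt', n, hn, hF, ⟨e⟩⟩ := hU
      have : Fact (Nat.Prime 2) := ⟨Nat.prime_two⟩
      have hidx : ¬ 2 ∣ Q.index := fun h =>
        Nat.not_even_iff_odd.mpr (Reduction.odd_index_of_le hS le_rfl) (even_iff_two_dvd.mpr h)
      have ht := of_psu hn (by rw [Nat.card_eq_fintype_card, hF]) e.symm (hQ2.toSylow hidx)
      have ht' : TorusElt Q := ht
      refine false_of_torus ht' hTQ ?_ hc hwT hw1 hw2
      intro m hm x hx
      rw [Cfsg.Agent.TwoFusion.GoldBen.normalizer_eq hS] at hm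
      exact hTn m hm x hx
    · intro x hx
      by_cases h1 : x * x = 1
      · exact Or.inl h1
      · exact Or.inr ⟨hS.le (Q.mul_mem hx hx), h1, hsq x hx⟩
  · -- `r ≠ s` : Suzuki groups
    have : Fact (Nat.Prime 2) := ⟨Nat.prime_two⟩
    have hnab : ¬ ∀ x ∈ Q, ∀ y ∈ Q, x * y = y * x := fun h =>
      hrs (AbelianCase.r_eq_s hS h2 C hC hQ2 h s r hs hr hsr)
    let S : Sylow 2 Q := default
    have hST : (S : Subgroup Q) = ⊤ :=
      (S.is_maximal' (hQ2.of_equiv Subgroup.topEquiv.symm) le_top).symm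
    have hSuz : IsSuzukiTwoGroup ↥(S : Subgroup Q) := by
      rcases S1132.result hS h2 S with h | h
      · exfalso
        apply hnab
        intro x hx y hy
        have hmem : ∀ x : Q, x ∈ (S : Subgroup Q) := fun x => by
          rw [hST]
          exact Subgroup.mem_top x
        have h3 := h.is_comm.comm (⟨⟨x, hx⟩, hmem _⟩ : (S : Subgroup Q)) ⟨⟨y, hy⟩, hmem _⟩
        exact congrArg (fun z : (S : Subgroup Q) => ((z : Q) : G)) h3
      · exact h
    obtain ⟨h4, hcard, n, hn⟩ := Assembly.of_suzuki hS hcen S hST hSuz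
    have hr2 : r * r = s := OrderFive.sq_eq hS hcen hclosed hs hr hsr hrs (h4 r hr)
    have hcard' : Nat.card Q = (Nat.card (involutionsIn (stabilizer G a : Set G)) + 1) ^ 2 := by
      refine hcard.resolve_right ?_
      rw [hn]
      exact OrderFive.card_ne_cube hS hcen hclosed hC hs hr hsr hrs (h4 r hr) hn
    have hle := sq_le_T hS hTQ hTn hcen hinv' hwT hw1 hw2
    rw [Cfsg.Agent.TwoFusion.GoldBen.ncard_invo hS, ← hcard'] at hle
    have hTeq : T = Q := Subgroup.eq_of_le_of_card_ge hTQ hle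
    rw [hTeq] at hc
    exact hnab hc

end Setup

/-- **END2, the simple case.** -/
theorem simple_end {G : Type u} [Group G] [Finite G] [IsSimpleGroup G]
    (hna : ∃ a b : G, a * b ≠ b * a) {M T : Subgroup G} (hM : IsStronglyEmbedded M) (hTM : T ≤ M)
    (hTn : ∀ m ∈ M, ∀ x ∈ T, m * x * m⁻¹ ∈ T) (hc : ∀ x ∈ T, ∀ y ∈ T, x * y = y * x)
    (hT2 : IsPGroup 2 T) (hinv : ∀ x ∈ M, orderOf x = 2 → x ∈ T) (hx : ∃ x ∈ T, x * x ≠ 1) :
    False := by
  obtain ⟨z, -, hz⟩ := exists_involution hM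
  obtain ⟨t, ht, ht2⟩ := exists_involution_notMem hM
  have hr := Cfsg.Agent.StrongEmb.Simple.commPair_of_simple hna hz
  have hcore := Cfsg.Agent.StrongEmb.Split.normalCore_eq_bot_of_simple hM.1
  obtain ⟨Q, hQ, -⟩ := Cfsg.Agent.StrongEmb.Main.bender G M hM hr hcore
  have hS := Cfsg.Agent.StrongEmb.Split.setup_of_isSplit hM hQ ht ht2
  have hf := Cfsg.Agent.StrongEmb.Split.faithfulSMul_of_core hcore
  have hst : stabilizer G (((1 : G) : G ⧸ M)) = M := by
    ext g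
    rw [mem_stabilizer_iff]
    exact smul_one_eq_iff g
  refine false_of_setup (a := ((1 : G) : G ⧸ M)) hS hr.exists_sq (T := T) ?_ ?_ hc ?_ hx
  · intro x hx
    obtain ⟨n, hn⟩ := IsPGroup.iff_orderOf.mp hT2 ⟨x, hx⟩
    rw [Subgroup.orderOf_mk] at hn
    exact (Cfsg.Agent.StrongEmb.Split.isPGroup_of_isSplit hM hQ hr).2 x (hTM hx) ⟨n, hn⟩
  · rw [hst]
    exact hTn
  · rw [hst]
    rintro s ⟨hs, hs1, hs2⟩
    exact hinv s hs (orderOf_eq_two_of_mul_self hs2 hs1)

end Cfsg.Agent.H336.OT
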