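import Mathlib
import Cfsg.Agent.S1221
import Cfsg.Agent.S1911
import Cfsg.Agent.H336.OT.SimpleEnd

/-!
# END2 (Seitz's theorem, q odd)

`end_two`: a finite group `Y` with a proper subgroup `M` and an abelian subgroup `T ≤ M` such that every proper
overgroup of `T` lies in `M`, `T` meets the other conjugates of `M` in groups of odd order, `TU` and `U` are normal
in `M` for a subgroup `U` of odd order, `M` contains no normal subgroup `≠ 1` of `Y`, and `T` has two involutions
and an element whose square is not 1, does not exist.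

`end_two_normalizer`: the case `M = N(T)`.
-/

set_option autoImplicit false

universe u

namespace Cfsg.Agent.H336.OT

open Cfsg
open Cfsg.Agent.TwoFusion.StronglyEmbeddedBasic
open Cfsg.Agent.StrongEmb.TwoRank

/-- A strongly embedded subgroup of the whole group, given as a subgroup of `N = ⊤`. -/
theorem stronglyEmbedded_of_subgroupOf {G : Type*} [Group G] [Finite G] {M N : Subgroup G} (hN : N = ⊤)
    (h : IsStronglyEmbedded (M.subgroupOf N)) : IsStronglyEmbedded M := by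
  subst hN
  refine ⟨?_, ?_, ?_⟩
  · rintro rfl
    exact h.1 (by simp)
  · have h1 : Nat.card (M.subgroupOf ⊤) = Nat.card M :=
      Nat.card_congr (Subgroup.subgroupOfEquivOfLe le_top).toEquiv
    rw [← h1]
    exact h.2.1
  · intro g hg
    by_contra hodd
    rw [Nat.not_odd_iff_even] at hodd
    obtain ⟨⟨x, hx⟩, h2⟩ := exists_prime_orderOf_dvd_card'
      (G := ↥(M ⊓ M.map (MulAut.conj g).toMonoidHom)) 2 (even_iff_two_dvd.mp hodd)
    rw [Subgroup.orderOf_mk] at h2
    obtain ⟨hx1, y, hy, hyx⟩ := hx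
    refine not_odd_of_mem _ (⟨x, Subgroup.mem_top x⟩ : (⊤ : Subgroup G)) ?_ ?_
      (h.2.2 ⟨g, Subgroup.mem_top g⟩ (fun hc => hg hc))
    · refine ⟨hx1, ⟨y, Subgroup.mem_top y⟩, hy, ?_⟩
      exact Subtype.ext hyx
    · rwa [Subgroup.orderOf_mk]

/-- Every involution of `T U`, `U` of odd order normalized by `T`, is conjugate in `T U` to an
element of `T`. -/
theorem exists_conj_of_sup {G : Type*} [Group G] [Finite G] {T U : Subgroup G} (hU : Odd (Nat.card U))
    (hn : T ≤ Subgroup.normalizer (U : Set G)) {x : G} (hx : x ∈ T ⊔ U) (hx2 : orderOf x = 2) :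
    ∃ k ∈ T ⊔ U, ∃ t ∈ T, orderOf t = 2 ∧ k * t * k⁻¹ = x := by
  have hx' : x ∈ ((T ⊔ U : Subgroup G) : Set G) := hx
  rw [Subgroup.coe_mul_of_left_le_normalizer_right T U hn] at hx'
  obtain ⟨t, ht, u, hu, rfl⟩ := hx'
  simp only at hx hx2
  have hconj : ∀ v ∈ U, t * v * t⁻¹ ∈ U := fun v hv =>
    (Subgroup.mem_normalizer_iff.mp (hn ht) v).mp hv
  have hconj' : ∀ v ∈ U, t⁻¹ * v * t ∈ U := by
    intro v hv
    have := (Subgroup.mem_normalizer_iff.mp (inv_mem (hn ht)) v).mp hv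
    rwa [inv_inv] at this
  have hxx := mul_self_of_orderOf hx2
  have htt : t * t ∈ U := by
    have h1 : t * u * t = u⁻¹ := by
      apply eq_inv_of_mul_eq_one_left
      rw [← hxx]; group
    have h2 : t * t = u⁻¹ * (t⁻¹ * u⁻¹ * t) := by
      calc t * t = (t * u * t) * (t⁻¹ * u⁻¹ * t) := by group
        _ = _ := by rw [h1]
    rw [h2]
    exact mul_mem (inv_mem hu) (hconj' _ (inv_mem hu))
  obtain ⟨k, hk⟩ := id hU
  set t' : G := t ^ (2 * k + 1) with ht'
  have htT : t' ∈ T := pow_mem ht _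
  have hu1 : (t * t) ^ k ∈ U := pow_mem htt k
  have ht'eq : t' = t * (t * t) ^ k := by
    rw [ht', pow_succ', pow_mul, pow_two]
  have ht'2 : t' * t' = 1 := by
    have h1 : (t * t) ^ Nat.card U = 1 := by
      have h2 := pow_card_eq_one' (x := (⟨t * t, htt⟩ : U))
      exact congrArg Subtype.val h2
    rw [← h1, hk, ht', ← pow_add, ← pow_two t, ← pow_mul]
    congr 1
    ring
  have hodd : ∀ v ∈ U, Odd (orderOf v) := by
    intro v hv
    exact Odd.of_dvd_nat hU (U.orderOf_dvd_natCard hv)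
  have ht'1 : t' ≠ 1 := by
    intro h1
    have h2 : t ∈ U := by
      have h3 : t = ((t * t) ^ k)⁻¹ := by
        rw [h1] at ht'eq
        exact eq_inv_of_mul_eq_one_left ht'eq.symm
      rw [h3]
      exact inv_mem hu1
    have h3 := hodd _ (mul_mem h2 hu)
    rw [hx2] at h3
    exact absurd h3 (by decide)
  have ht'o : orderOf t' = 2 := orderOf_eq_two_of_mul_self ht'2 ht'1
  have hprod : t' * (t * u) ∈ U := by
    have h1 : t' * (t * u) = (t * (t * t) ^ k * t⁻¹) * (t * t) * u := by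
      rw [ht'eq]; group
    rw [h1]
    exact mul_mem (mul_mem (hconj _ hu1) htt) hu
  obtain ⟨j, hj, -, hj1, -⟩ := exists_swap t' (t * u) ht'o hx2 (hodd _ hprod)
  refine ⟨j, ?_, t', htT, ht'o, hj1⟩
  have h1 : Subgroup.closure ({t', t * u} : Set G) ≤ T ⊔ U := by
    rw [Subgroup.closure_le]
    rintro y (rfl | rfl)
    · exact Subgroup.mem_sup_left htT
    · exact hx
  exact h1 hj

/-- The elements of odd order of an abelian subgroup. -/
def oddPart {G : Type*} [Group G] [Finite G] (T : Subgroup G) (hc : ∀ x ∈ T, ∀ y ∈ T, x * y = y * x) :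
    Subgroup G where
  carrier := {x | x ∈ T ∧ Odd (orderOf x)}
  one_mem' := ⟨one_mem _, by rw [orderOf_one]; exact odd_one⟩
  mul_mem' := by
    rintro x y ⟨hx, hx1⟩ ⟨hy, hy1⟩
    refine ⟨mul_mem hx hy, ?_⟩
    have h1 : Commute x y := hc x hx y hy
    exact Odd.of_dvd_nat (hx1.mul hy1) h1.orderOf_mul_dvd_mul_orderOf
  inv_mem' := by
    rintro x ⟨hx, hx1⟩
    exact ⟨inv_mem hx, by rwa [orderOf_inv]⟩

/-- **END2**, general form. -/
theorem end_two {Y : Type u} [Group Y] [Finite Y] (M T U : Subgroup Y) (hTM : T ≤ M)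
    (hc : ∀ x ∈ T, ∀ y ∈ T, x * y = y * x)
    (hUM : U ≤ M) (hU : Odd (Nat.card U)) (hUn : ∀ m ∈ M, ∀ x ∈ U, m * x * m⁻¹ ∈ U)
    (hTU : ∀ m ∈ M, ∀ x ∈ T, m * x * m⁻¹ ∈ T ⊔ U)
    (hconj : ∀ t ∈ T, orderOf t = 2 → ∀ g : Y, g * t * g⁻¹ ∈ M → g ∈ M)
    (huniq : ∀ H : Subgroup Y, T ≤ H → H ≠ ⊤ → H ≤ M)
    (hcore : ∀ X : Subgroup Y, X.Normal → X ≤ M → X = ⊥)
    (hinv : ∃ s ∈ T, ∃ t ∈ T, orderOf s = 2 ∧ orderOf t = 2 ∧ s ≠ t)
    (hel : ∃ t ∈ T, t * t ≠ 1) : False := by
  obtain ⟨s₀, hs₀, t₀, ht₀, hs₀2, ht₀2, hst₀⟩ := hinv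
  have hTne : T ≠ ⊥ := by
    rintro rfl
    rw [Subgroup.mem_bot] at hs₀
    rw [hs₀, orderOf_one] at hs₀2
    exact absurd hs₀2 (by norm_num)
  set K := T ⊔ U with hK
  have hKM : K ≤ M := sup_le hTM hUM
  have hTn : T ≤ Subgroup.normalizer (U : Set Y) := by
    intro t ht
    rw [Subgroup.mem_normalizer_iff]
    intro x
    refine ⟨fun hx => hUn t (hTM ht) x hx, fun hx => ?_⟩
    have := hUn t⁻¹ (inv_mem (hTM ht)) _ hx
    simpa [mul_assoc] using this
  have hKn : ∀ m ∈ M, ∀ x ∈ K, m * x * m⁻¹ ∈ K := by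
    intro m hm
    have h1 : K ≤ K.comap (MulAut.conj m).toMonoidHom := by
      refine sup_le ?_ ?_
      · intro x hx
        exact hTU m hm x hx
      · intro x hx
        exact Subgroup.mem_sup_right (hUn m hm x hx)
    exact fun x hx => h1 hx
  have hMK : M ≤ Subgroup.normalizer (K : Set Y) := by
    intro m hm
    rw [Subgroup.mem_normalizer_iff]
    intro x
    refine ⟨fun hx => hKn m hm x hx, fun hx => ?_⟩
    have := hKn m⁻¹ (inv_mem hm) _ hx
    simpa [mul_assoc] using this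
  have hKconj : ∀ x ∈ K, orderOf x = 2 → ∀ g : Y, g * x * g⁻¹ ∈ M → g ∈ M := by
    intro x hx hx2 g hg
    obtain ⟨k, hk, t, ht, ht2, rfl⟩ := exists_conj_of_sup hU hTn hx hx2
    have h1 : (g * k) * t * (g * k)⁻¹ ∈ M := by
      have : (g * k) * t * (g * k)⁻¹ = g * (k * t * k⁻¹) * g⁻¹ := by group
      rw [this]; exact hg
    have h2 := hconj t ht ht2 _ h1
    have h3 := mul_mem h2 (inv_mem (hKM hk))
    simpa using h3
  have hNK : Subgroup.normalizer (K : Set Y) = M := by
    refine le_antisymm ?_ hMK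
    intro n hn
    refine hKconj s₀ (Subgroup.mem_sup_left hs₀) hs₀2 n ?_
    exact hKM ((Subgroup.mem_normalizer_iff.mp hn s₀).mp (Subgroup.mem_sup_left hs₀))
  -- `K` is tightly embedded
  have htight : IsTightlyEmbedded K := by
    refine ⟨?_, ?_⟩
    · rw [even_iff_two_dvd, ← hs₀2]
      exact K.orderOf_dvd_natCard (Subgroup.mem_sup_left hs₀)
    · intro g hg
      by_contra hodd
      rw [Nat.not_odd_iff_even] at hodd
      obtain ⟨⟨x, hx⟩, h2⟩ := exists_prime_orderOf_dvd_card'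
        (G := ↥(K ⊓ K.map (MulAut.conj g).toMonoidHom)) 2 (even_iff_two_dvd.mp hodd)
      rw [Subgroup.orderOf_mk] at h2
      obtain ⟨hx1, y, hy, hyx⟩ := hx
      rw [hNK] at hg
      apply hg
      have hyx' : g * y * g⁻¹ = x := hyx
      refine hKconj y hy ?_ g ?_
      · rw [← hyx', orderOf_conj] at h2; exact h2
      · rw [hyx']; exact hKM hx1
  have hodd : ∀ g : Y, g ∉ Subgroup.normalizer (K : Set Y) →
      Odd (Nat.card ↥(K.map (MulAut.conj g).toMonoidHom ⊓ Subgroup.normalizer (K : Set Y))) := by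
    intro g hg
    by_contra hodd
    rw [Nat.not_odd_iff_even] at hodd
    obtain ⟨⟨x, hx⟩, h2⟩ := exists_prime_orderOf_dvd_card'
      (G := ↥(K.map (MulAut.conj g).toMonoidHom ⊓ Subgroup.normalizer (K : Set Y))) 2
      (even_iff_two_dvd.mp hodd)
    rw [Subgroup.orderOf_mk] at h2
    obtain ⟨⟨y, hy, hyx⟩, hx1⟩ := hx
    rw [hNK] at hg hx1
    apply hg
    have hyx' : g * y * g⁻¹ = x := hyx
    refine hKconj y hy ?_ g ?_
    · rw [← hyx', orderOf_conj] at h2; exact h2
    · rw [hyx']; exact hx1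
  have hnc : Subgroup.normalClosure (K : Set Y) = ⊤ := by
    by_contra hne
    have h1 : T ≤ Subgroup.normalClosure (K : Set Y) :=
      le_sup_left.trans Subgroup.le_normalClosure
    have h2 := hcore _ Subgroup.normalClosure_normal (huniq _ h1 hne)
    rw [h2] at h1
    exact hTne (le_bot_iff.mp h1)
  have hSE : IsStronglyEmbedded M := by
    rcases Cfsg.Agent.S1911.result K htight hodd with h | h
    · exfalso
      have h1 := hcore K h hKM
      exact hTne (le_bot_iff.mp (h1 ▸ le_sup_left))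
    · rw [hNK] at h
      exact stronglyEmbedded_of_subgroupOf hnc h
  -- no odd core
  have hO : oddCore Y = ⊥ := by
    have hOn : (oddCore Y).Normal := inferInstance
    by_cases htop : T ⊔ oddCore Y = ⊤
    · exfalso
      obtain ⟨g, hg⟩ := isConj_iff.mp (isConj_of_involutions hSE s₀ t₀ hs₀2 ht₀2)
      have hgm : g ∈ ((T ⊔ oddCore Y : Subgroup Y) : Set Y) := by rw [htop]; trivial
      rw [Subgroup.mul_normal] at hgm
      obtain ⟨b, hb, o, ho, rfl⟩ := hgm
      simp only at hg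
      have hbt : b * t₀ = t₀ * b := hc b hb t₀ ht₀
      have h1 : o * s₀ * o⁻¹ = t₀ := by
        have h2 : b * (o * s₀ * o⁻¹) * b⁻¹ = t₀ := by rw [← hg]; group
        have h3 : b * (o * s₀ * o⁻¹) = t₀ * b := mul_inv_eq_iff_eq_mul.mp h2
        rw [← hbt] at h3
        exact mul_left_cancel h3
      have h4 : t₀ * s₀ ∈ oddCore Y := by
        have h5 : t₀ * s₀ = o * (s₀ * o⁻¹ * s₀⁻¹) := by
          rw [← h1]
          have := mul_self_of_orderOf hs₀2
          rw [inv_eq_of_mul_eq_one_left this]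
          group
        rw [h5]
        exact mul_mem ho (hOn.conj_mem _ (inv_mem ho) s₀)
      have h5 : orderOf (t₀ * s₀) = 2 := by
        apply orderOf_eq_two_of_mul_self
        · have h6 := hc s₀ hs₀ t₀ ht₀
          have h7 := mul_self_of_orderOf hs₀2
          have h8 := mul_self_of_orderOf ht₀2
          calc t₀ * s₀ * (t₀ * s₀) = t₀ * (s₀ * t₀) * s₀ := by group
            _ = (t₀ * t₀) * (s₀ * s₀) := by rw [h6]; group
            _ = 1 := by rw [h7, h8, one_mul]
        · intro h6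
          apply hst₀
          have h7 := mul_self_of_orderOf hs₀2
          have h8 : t₀ * s₀ = s₀ * s₀ := by rw [h6, h7]
          exact (mul_right_cancel h8).symm
      exact not_odd_of_mem _ _ h4 h5 (odd_oddCore Y)
    · exact hcore _ hOn (le_sup_right.trans (huniq _ le_sup_left htop))
  have hOM : oddCore M = ⊥ := by
    have h1 := Cfsg.Agent.S1221.result M hSE
    rw [hO] at h1
    have h2 := le_bot_iff.mp h1
    exact (Subgroup.map_eq_bot_iff_of_injective _ M.subtype_injective).mp h2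
  -- a normal subgroup of odd order of `M` is trivial
  have hoddM : ∀ V : Subgroup Y, V ≤ M → Odd (Nat.card V) → (∀ m ∈ M, ∀ x ∈ V, m * x * m⁻¹ ∈ V) →
      V = ⊥ := by
    intro V hV hVo hVn
    have h1 : (V.subgroupOf M).Normal := by
      refine ⟨?_⟩
      rintro ⟨x, hx⟩ hxV ⟨m, hm⟩
      exact hVn m hm x hxV
    have h2 : Odd (Nat.card (V.subgroupOf M)) := by
      rw [Nat.card_congr (Subgroup.subgroupOfEquivOfLe hV).toEquiv]
      exact hVo
    have h3 := le_oddCore h1 h2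
    rw [hOM, le_bot_iff, Subgroup.subgroupOf_eq_bot] at h3
    rw [Subgroup.eq_bot_iff_forall]
    intro x hx
    have := h3.le_bot (show x ∈ V ⊓ M from ⟨hx, hV hx⟩)
    exact this
  have hUbot : U = ⊥ := hoddM U hUM hU hUn
  have hTn' : ∀ m ∈ M, ∀ x ∈ T, m * x * m⁻¹ ∈ T := by
    intro m hm x hx
    have := hTU m hm x hx
    rwa [hK, hUbot, sup_bot_eq] at this
  have hTodd : oddPart T hc = ⊥ := by
    refine hoddM _ (fun x hx => hTM hx.1) ?_ ?_
    · by_contra h
      rw [Nat.not_odd_iff_even] at h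
      obtain ⟨⟨x, hx⟩, h2⟩ := exists_prime_orderOf_dvd_card'
        (G := ↥(oddPart T hc)) 2 (even_iff_two_dvd.mp h)
      rw [Subgroup.orderOf_mk] at h2
      have h3 : Odd (orderOf x) := hx.2
      rw [h2] at h3
      exact absurd h3 (by decide)
    · rintro m hm x ⟨hx, hx1⟩
      exact ⟨hTn' m hm x hx, by rwa [orderOf_conj]⟩
  have hT2 : IsPGroup 2 T := by
    rw [IsPGroup.iff_orderOf]
    rintro ⟨x, hx⟩
    rw [Subgroup.orderOf_mk]
    obtain ⟨k, m, hm, hkm⟩ := Nat.exists_eq_two_pow_mul_odd (orderOf_pos x).ne'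
    have h1 : orderOf (x ^ 2 ^ k) = m := by
      rw [orderOf_pow_of_dvd (by positivity) (by rw [hkm]; exact dvd_mul_right _ _), hkm]
      exact Nat.mul_div_cancel_left m (by positivity)
    have h2 : x ^ 2 ^ k ∈ oddPart T hc := ⟨pow_mem hx _, by rw [h1]; exact hm⟩
    rw [hTodd, Subgroup.mem_bot] at h2
    rw [h2, orderOf_one] at h1
    exact ⟨k, by rw [hkm, ← h1, mul_one]⟩
  -- the transitive subgroup `D`
  obtain ⟨u, huM, hu2⟩ := exists_involution_notMem hSE
  set D := M ⊓ M.map (MulAut.conj u).toMonoidHom with hD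
  have hDodd : Odd (Nat.card D) := hSE.2.2 u huM
  have htrans : ∀ s t : Y, s ∈ M → t ∈ M → orderOf s = 2 → orderOf t = 2 → ∃ d ∈ D, d * s * d⁻¹ = t :=
    fun s t hs ht hs2 ht2 => (Cfsg.Agent.S1225.result M hSE u hu2 huM s t hs2 hs ht2 ht).1
  have hinvT : ∀ x ∈ M, orderOf x = 2 → x ∈ T := by
    intro x hx hx2
    obtain ⟨d, hd, hdx⟩ := htrans s₀ x (hTM hs₀) hx hs₀2 hx2
    rw [← hdx]
    exact hTn' d hd.1 s₀ hs₀
  have hfix : ∀ x ∈ T, (∀ d ∈ D, d * x * d⁻¹ = x) → x = 1 := by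
    intro x hx hfx
    by_contra hx1
    -- a power which is an involution
    obtain ⟨n, hn⟩ := IsPGroup.iff_orderOf.mp hT2 ⟨x, hx⟩
    rw [Subgroup.orderOf_mk] at hn
    have hn1 : n ≠ 0 := by
      rintro rfl
      rw [pow_zero, orderOf_eq_one_iff] at hn
      exact hx1 hn
    obtain ⟨m, rfl⟩ := Nat.exists_eq_succ_of_ne_zero hn1
    set y := x ^ 2 ^ m with hy
    have hy2 : orderOf y = 2 := by
      rw [hy, orderOf_pow_of_dvd (by positivity) (by rw [hn]; exact pow_dvd_pow 2 (Nat.le_succ m)), hn,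
        Nat.pow_div (Nat.le_succ m) (by norm_num)]
      simp
    have hyT : y ∈ T := pow_mem hx _
    have hyfix : ∀ d ∈ D, d * y * d⁻¹ = y := by
      intro d hd
      have h1 := hfx d hd
      have h2 : (MulAut.conj d) (x ^ 2 ^ m) = (MulAut.conj d x) ^ 2 ^ m := map_pow _ _ _
      have h3 : MulAut.conj d x = x := h1
      rw [h3] at h2
      exact h2
    have h1 : ∀ z ∈ T, orderOf z = 2 → z = y := by
      intro z hz hz2
      obtain ⟨d, hd, hdz⟩ := htrans y z (hTM hyT) (hTM hz) hy2 hz2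
      rw [← hdz, hyfix d hd]
    exact hst₀ ((h1 s₀ hs₀ hs₀2).trans (h1 t₀ ht₀ ht₀2).symm)
  -- the norm argument
  have hTX : ∀ X : Subgroup Y, X.Normal → X ⊔ T = ⊤ → T ≤ X := by
    intro X hX hXT t ht
    let _ : CommGroup T := { (inferInstance : Group T) with
      mul_comm := fun x y => Subtype.ext (hc x x.2 y y.2) }
    have : Fintype D := Fintype.ofFinite D
    have hcong : ∀ d : Y, d * t * d⁻¹ * t⁻¹ ∈ X := by
      intro d
      have hd : d ∈ ((X ⊔ T : Subgroup Y) : Set Y) := by rw [hXT]; trivial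
      rw [Subgroup.normal_mul] at hd
      obtain ⟨x, hx, b, hb, rfl⟩ := hd
      have h1 := hc b hb t ht
      have h2 : x * b * t * (x * b)⁻¹ * t⁻¹ = x * (t * x⁻¹ * t⁻¹) := by
        calc x * b * t * (x * b)⁻¹ * t⁻¹ = x * (b * t) * b⁻¹ * x⁻¹ * t⁻¹ := by group
          _ = x * (t * b) * b⁻¹ * x⁻¹ * t⁻¹ := by rw [h1]
          _ = x * (t * x⁻¹ * t⁻¹) := by group
      show x * b * t * (x * b)⁻¹ * t⁻¹ ∈ X
      rw [h2]
      exact mul_mem hx (hX.conj_mem _ (inv_mem hx) t)
    let f : D → T := fun d => ⟨(d : Y) * t * (d : Y)⁻¹, hTn' d d.2.1 t ht⟩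
    set N : T := ∏ d : D, f d with hN
    have hNfix : (N : Y) = 1 := by
      refine hfix N N.2 ?_
      intro e he
      let φ : T →* T :=
        { toFun := fun x => ⟨e * x * e⁻¹, hTn' e he.1 x x.2⟩
          map_one' := Subtype.ext (by simp)
          map_mul' := fun x y => Subtype.ext (by simp [mul_assoc]) }
      have h1 : φ N = N := by
        rw [hN, map_prod]
        refine Fintype.prod_equiv (Equiv.mulLeft (⟨e, he⟩ : D)) _ _ ?_
        intro d
        apply Subtype.ext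
        show e * ((d : Y) * t * (d : Y)⁻¹) * e⁻¹ = (e * d) * t * (e * (d : Y))⁻¹
        group
      exact congrArg Subtype.val h1
    have hNmod : (QuotientGroup.mk' (X.subgroupOf T)) N =
        (QuotientGroup.mk' (X.subgroupOf T)) (⟨t, ht⟩ : T) ^ Fintype.card D := by
      rw [hN, map_prod, Finset.prod_congr rfl (g := fun _ =>
        (QuotientGroup.mk' (X.subgroupOf T)) (⟨t, ht⟩ : T))]
      · rw [Finset.prod_const, Finset.card_univ]
      · intro d _
        have h1 : (f d) * (⟨t, ht⟩ : T)⁻¹ ∈ X.subgroupOf T := hcong d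
        rw [← div_eq_one, ← map_div, div_eq_mul_inv]
        exact (QuotientGroup.eq_one_iff _).mpr h1
    have hN1 : N = 1 := Subtype.ext hNfix
    rw [hN1, map_one, ← Nat.card_eq_fintype_card] at hNmod
    have h1 : orderOf ((QuotientGroup.mk' (X.subgroupOf T)) (⟨t, ht⟩ : T)) ∣ Nat.card D :=
      orderOf_dvd_of_pow_eq_one hNmod.symm
    obtain ⟨n, hn⟩ := IsPGroup.iff_orderOf.mp hT2 ⟨t, ht⟩
    have h2 : orderOf ((QuotientGroup.mk' (X.subgroupOf T)) (⟨t, ht⟩ : T)) ∣ 2 ^ n := by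
      rw [← hn]
      exact orderOf_map_dvd _ _
    have h3 : Nat.Coprime (Nat.card D) (2 ^ n) :=
      Nat.Coprime.pow_right n (Nat.coprime_two_right.mpr hDodd)
    have h4 := Nat.eq_one_of_dvd_coprimes h3 h1 h2
    rw [orderOf_eq_one_iff] at h4
    have h5 : (⟨t, ht⟩ : T) ∈ X.subgroupOf T := (QuotientGroup.eq_one_iff _).mp h4
    exact h5
  -- `Y` is simple
  have hna : ∃ a b : Y, a * b ≠ b * a := by
    by_contra h
    push Not at h
    have h1 : T.Normal := ⟨fun x hx g => by rw [h g x]; simpa using hx⟩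
    exact hTne (hcore T h1 hTM)
  have hnt : Nontrivial Y := by
    obtain ⟨a, b, hab⟩ := hna
    exact ⟨a * b, b * a, hab⟩
  have hsimple : IsSimpleGroup Y := by
    refine ⟨fun X hX => ?_⟩
    by_cases hXM : X ≤ M
    · exact Or.inl (hcore X hX hXM)
    · right
      have h1 : X ⊔ T = ⊤ := by
        by_contra h1
        exact hXM (le_sup_left.trans (huniq _ le_sup_right h1))
      have h2 := hTX X hX h1
      rwa [sup_eq_left.mpr h2] at h1
  exact simple_end hna hSE hTM hTn' hc hT2 hinvT hel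

/-- **END2** for `M = N(T)`. -/
theorem end_two_normalizer {Y : Type u} [Group Y] [Finite Y] (T : Subgroup Y)
    (hc : ∀ x ∈ T, ∀ y ∈ T, x * y = y * x)
    (hconj : ∀ t ∈ T, orderOf t = 2 → ∀ g : Y, g * t * g⁻¹ ∈ Subgroup.normalizer (T : Set Y) →
      g ∈ Subgroup.normalizer (T : Set Y))
    (huniq : ∀ H : Subgroup Y, T ≤ H → H ≠ ⊤ → H ≤ Subgroup.normalizer (T : Set Y))
    (hcore : ∀ X : Subgroup Y, X.Normal → X ≤ Subgroup.normalizer (T : Set Y) → X = ⊥)
    (hinv : ∃ s ∈ T, ∃ t ∈ T, orderOf s = 2 ∧ orderOf t = 2 ∧ s ≠ t)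
    (hel : ∃ t ∈ T, t * t ≠ 1) : False := by
  refine end_two (Subgroup.normalizer (T : Set Y)) T ⊥ Subgroup.le_normalizer hc bot_le
    (by rw [Subgroup.card_bot]; exact odd_one) ?_ ?_ hconj huniq hcore hinv hel
  · intro m _ x hx
    rw [Subgroup.mem_bot] at hx
    rw [hx]
    simp
  · intro m hm x hx
    rw [sup_bot_eq]
    exact (Subgroup.mem_normalizer_iff.mp hm x).mp hx

end Cfsg.Agent.H336.OT
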