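import Cfsg.Agent.H186.OT.Iface
import Cfsg.Agent.H336.OT.EndTwo

/-!
# END2 in the form of the interface of S2539

`false_of_noEl_two`: `Core A`, `NoEl A 2`, two involutions in `A` and an element of `A` with square `≠ 1` are
impossible.
-/

set_option autoImplicit false

universe u

namespace Cfsg.Agent.H336.OT

open Cfsg

/-- **END2.** -/
theorem false_of_noEl_two {Y : Type u} [Group Y] [Finite Y] {A : Subgroup Y} (hA : Cfsg.Agent.H298.OT.Core A)
    (hN : Cfsg.Agent.H186.OT.NoEl A 2)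
    (hinv : ∃ s ∈ A, ∃ t ∈ A, orderOf s = 2 ∧ orderOf t = 2 ∧ s ≠ t) (hel : ∃ t ∈ A, t * t ≠ 1) :
    False := by
  refine end_two_normalizer A hA.comm ?_ hA.uniq hA.norm hinv hel
  intro t ht ht2 g hg
  by_contra hgN
  have h1 : g⁻¹ ∉ Subgroup.normalizer (A : Set Y) := fun h => hgN (by simpa using inv_mem h)
  have h2 := hN g⁻¹ h1 (g * t * g⁻¹) hg (by simpa [mul_assoc] using ht) (by
    rw [pow_two]
    have h3 : t * t = 1 := by rw [← pow_two, ← ht2, pow_orderOf_eq_one]
    calc g * t * g⁻¹ * (g * t * g⁻¹) = g * (t * t) * g⁻¹ := by group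
      _ = 1 := by rw [h3]; group)
  have h3 : t = 1 := by
    have h4 : g * t * g⁻¹ * g = 1 * g := by rw [h2]
    rw [one_mul, inv_mul_cancel_right] at h4
    exact mul_left_cancel (h4.trans (mul_one g).symm)
  rw [h3, orderOf_one] at ht2
  exact absurd ht2 (by norm_num)

end Cfsg.Agent.H336.OT
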